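import Groth.Agent.Lefpen.H714.EulerEt
import Groth.Agent.Etcore.MVbc
import Groth.Agent.Etcore.OpenClosed
import Groth.Agent.Sga5.ClosedPush

/-!
# The Euler characteristic of a union of two closed subschemes

* `sameRange`: closed immersions with the same range have the same cohomology.
* `e_closed_open`: `e X F = e X (j_! j⁻¹ F) + e Z (i⁻¹ F)`.
* `good_union`, `e_union`: `X = A ∪ B` closed, `C = A ∩ B`: `e X F = e A F|_A + e B F|_B - e C F|_C`.
-/

set_option autoImplicit false
set_option backward.isDefEq.respectTransparency false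
set_option backward.isDefEq.respectTransparency.types false
universe u
open CategoryTheory CategoryTheory.Limits CategoryTheory.Abelian AlgebraicGeometry Opposite

namespace Groth.Agent.Lefpen.H996.EulerClosed

open Groth.Agent.Lefpen.H714 Groth.Agent.Lefpen.H714.EulerAlg Groth.Agent.Lefpen.H714.EulerEt
open Groth.Agent.Etcore.MVShriek Groth.Agent.Etcore.MVbc
open Groth.Agent.Etcore

variable {A B C U Z X : Scheme.{u}}

theorem pfl {X Y : Scheme.{u}} (f : X ⟶ Y) : PreservesFiniteLimits (EtCoh.pull f) :=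
  Groth.Agent.S0101.result f

section OpenClosed

variable (i : Z ⟶ X) [IsClosedImmersion i] (j : U ⟶ X) [IsOpenImmersion j]
  (hc : IsCompl (Set.range i) (Set.range j)) (F : EtCoh.Ab X)

theorem nonempty_H_push (G : EtCoh.Ab Z) (n : ℕ) :
    Nonempty (EtCoh.H X ((EtCoh.push i).obj G) n ≃ EtCoh.H Z G n) := by
  obtain ⟨e⟩ := Groth.Agent.Sga5.ClosedPush.nonempty_H_push i G n
  exact ⟨e.toEquiv⟩

/-- `j_! j⁻¹ F` in its two forms. -/
noncomputable def PIso : P j F ≅ (EtShriek.extZero j).obj ((EtShriek.restrAlong j).obj F) :=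
  (EtShriek.extZero j).mapIso ((ShriekBasic.pullIsoRestr j).app F)

include hc in
theorem good_closed (h1 : GoodE X F) (h2 : GoodE X (P j F)) : GoodE Z ((EtCoh.pull i).obj F) := by
  have h3 := good_right (OpenClosed.shortExact i j hc F) (GoodE.iso (PIso j F) h2) h1
  exact h3.congr (nonempty_H_push i _)

include hc in
theorem good_P (h1 : GoodE X F) (h2 : GoodE Z ((EtCoh.pull i).obj F)) : GoodE X (P j F) := by
  have h3 : GoodE X ((EtCoh.push i).obj ((EtCoh.pull i).obj F)) :=
    h2.congr fun n => ⟨(nonempty_H_push i _ n).some.symm⟩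
  exact GoodE.iso (PIso j F).symm (good_left (OpenClosed.shortExact i j hc F) h1 h3)

include hc in
theorem good_whole (h1 : GoodE X (P j F)) (h2 : GoodE Z ((EtCoh.pull i).obj F)) : GoodE X F := by
  have h3 : GoodE X ((EtCoh.push i).obj ((EtCoh.pull i).obj F)) :=
    h2.congr fun n => ⟨(nonempty_H_push i _ n).some.symm⟩
  exact good_mid (OpenClosed.shortExact i j hc F) (GoodE.iso (PIso j F) h1) h3

include hc in
theorem e_closed_open (h1 : GoodE X (P j F)) (h2 : GoodE Z ((EtCoh.pull i).obj F)) :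
    e X F = e X (P j F) + e Z ((EtCoh.pull i).obj F) := by
  have h3 : GoodE X ((EtCoh.push i).obj ((EtCoh.pull i).obj F)) :=
    h2.congr fun n => ⟨(nonempty_H_push i _ n).some.symm⟩
  have h4 := e_add (OpenClosed.shortExact i j hc F) (GoodE.iso (PIso j F) h1)
    (good_whole i j hc F h1 h2) h3
  have h5 : e X F = e X ((EtShriek.extZero j).obj ((EtShriek.restrAlong j).obj F)) +
    e X ((EtCoh.push i).obj ((EtCoh.pull i).obj F)) := h4
  rw [h5, ← e_iso (PIso j F), e_congr (nonempty_H_push i _)]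

end OpenClosed

/-- Closed immersions with the same range have the same cohomology. -/
theorem nonempty_H_sameRange (a : A ⟶ X) [IsClosedImmersion a] (b : B ⟶ X) [IsClosedImmersion b]
    (h : Set.range a = Set.range b) (F : EtCoh.Ab X) (n : ℕ) :
    Nonempty (EtCoh.H A ((EtCoh.pull a).obj F) n ≃ EtCoh.H B ((EtCoh.pull b).obj F) n) := by
  let V : X.Opens := ⟨(Set.range a)ᶜ, a.isClosedEmbedding.isClosed_range.isOpen_compl⟩
  have hV : Set.range V.ι = (Set.range a)ᶜ := by rw [Scheme.Opens.range_ι]; rfl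
  have ha : IsCompl (Set.range a) (Set.range V.ι) := by rw [hV]; exact isCompl_compl
  have hb : IsCompl (Set.range b) (Set.range V.ι) := by rw [← h]; exact ha
  have s1 := OpenClosed.shortExact a V.ι ha F
  have s2 := OpenClosed.shortExact b V.ι hb F
  have p1 := s1.epi_g
  have p2 := s2.epi_g
  have e1 : (EtCoh.push a).obj ((EtCoh.pull a).obj F) ≅ (EtCoh.push b).obj ((EtCoh.pull b).obj F) :=
    s1.exact.gIsCokernel.coconePointUniqueUpToIso s2.exact.gIsCokernel
  exact ⟨(nonempty_H_push a _ n).some.symm.trans ((nonempty_H_iso e1 n).some.trans (nonempty_H_push b _ n).some)⟩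

theorem e_sameRange (a : A ⟶ X) [IsClosedImmersion a] (b : B ⟶ X) [IsClosedImmersion b]
    (h : Set.range a = Set.range b) (F : EtCoh.Ab X) :
    e A ((EtCoh.pull a).obj F) = e B ((EtCoh.pull b).obj F) :=
  e_congr (nonempty_H_sameRange a b h F)

/-- A sheaf with zero stalks off a closed subscheme comes from it. -/
theorem isIso_unit_of_isZero (a : A ⟶ X) [IsClosedImmersion a] (G : EtCoh.Ab X)
    (h : ∀ (Ω : Type u) [Field Ω] [IsSepClosed Ω] (ξ : Spec (CommRingCat.of Ω) ⟶ X),
      ξ default ∉ Set.range a → IsZero ((EtCoh.stalk ξ).obj G)) :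
    IsIso ((EtCoh.pullPushAdj a).unit.app G) := by
  rw [Stalks.isIso_iff_stalks]
  intro Ω _ _ ξ
  by_cases hξ : ξ default ∈ Set.range a
  · exact OpenClosed.isIso_stalk_unit a ξ hξ G
  · let V : X.Opens := ⟨(Set.range a)ᶜ, a.isClosedEmbedding.isClosed_range.isOpen_compl⟩
    have hV : Set.range V.ι = (Set.range a)ᶜ := by rw [Scheme.Opens.range_ι]; rfl
    have ha : IsCompl (Set.range a) (Set.range V.ι) := by rw [hV]; exact isCompl_compl
    have h1 : ξ default ∈ Set.range V.ι := by rw [hV]; exact hξ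
    exact (h Ω ξ hξ).isIso (OpenClosed.isZero_stalk_push a V.ι ha.disjoint ξ h1 _) _

theorem nonempty_H_of_isZero (a : A ⟶ X) [IsClosedImmersion a] (G : EtCoh.Ab X)
    (h : ∀ (Ω : Type u) [Field Ω] [IsSepClosed Ω] (ξ : Spec (CommRingCat.of Ω) ⟶ X),
      ξ default ∉ Set.range a → IsZero ((EtCoh.stalk ξ).obj G)) (n : ℕ) :
    Nonempty (EtCoh.H X G n ≃ EtCoh.H A ((EtCoh.pull a).obj G) n) := by
  have h1 := isIso_unit_of_isZero a G h
  exact ⟨(nonempty_H_iso (asIso ((EtCoh.pullPushAdj a).unit.app G)) n).some.trans (nonempty_H_push a _ n).some⟩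

section Union

variable (a : A ⟶ X) [IsClosedImmersion a] (b : B ⟶ X) [IsClosedImmersion b] (c : C ⟶ X)
  [IsClosedImmersion c] (hcov : Set.range a ∪ Set.range b = Set.univ)
  (hint : Set.range c = Set.range a ∩ Set.range b) (F : EtCoh.Ab X)

include hcov hint in
/-- The key comparison. -/
theorem key : ∃ (U : Scheme.{u}) (j : U ⟶ X) (_ : IsOpenImmersion j) (U' : Scheme.{u}) (j' : U' ⟶ A)
    (_ : IsOpenImmersion j') (C' : Scheme.{u}) (c' : C' ⟶ A) (_ : IsClosedImmersion c'),
    IsCompl (Set.range b) (Set.range j) ∧ IsCompl (Set.range c') (Set.range j') ∧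
    (∀ n, Nonempty (EtCoh.H X (P j F) n ≃ EtCoh.H A (P j' ((EtCoh.pull a).obj F)) n)) ∧
    (∀ n, Nonempty (EtCoh.H C ((EtCoh.pull c).obj F) n ≃
      EtCoh.H C' ((EtCoh.pull c').obj ((EtCoh.pull a).obj F)) n)) := by
  let V : X.Opens := ⟨(Set.range b)ᶜ, b.isClosedEmbedding.isClosed_range.isOpen_compl⟩
  have hV : Set.range V.ι = (Set.range b)ᶜ := by rw [Scheme.Opens.range_ι]; rfl
  have hVa : Set.range V.ι ⊆ Set.range a := by
    rw [hV]
    intro x hx
    exact (hcov.symm.subset (Set.mem_univ x)).resolve_right hx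
  let V' : A.Opens := a ⁻¹ᵁ V
  have hV' : Set.range V'.ι = a ⁻¹' Set.range V.ι := by
    rw [Scheme.Opens.range_ι, Scheme.Opens.range_ι]; rfl
  refine ⟨V, V.ι, inferInstance, V', V'.ι, inferInstance, pullback a b, pullback.fst a b, inferInstance,
    ?_, ?_, ?_, ?_⟩
  · rw [hV]; exact isCompl_compl
  · have h1 : Set.range (pullback.fst a b) = a ⁻¹' Set.range b := Scheme.Pullback.range_fst a b
    rw [h1, hV', hV, Set.preimage_compl]
    exact isCompl_compl
  · intro n
    obtain ⟨e1⟩ := nonempty_H_of_isZero a (P V.ι F) (fun Ω _ _ ξ hξ =>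
      isZero_stalk_P V.ι F ξ (fun h => hξ (hVa h))) n
    have e2 : P V'.ι ((EtCoh.pull a).obj F) ≅ (EtCoh.pull a).obj (P V.ι F) :=
      asIso (b0 a V.ι V'.ι hV' F)
    exact ⟨e1.trans (nonempty_H_iso e2.symm n).some⟩
  · intro n
    have h1 : Set.range c = Set.range (pullback.fst a b ≫ a) := by
      rw [hint]
      have h2 : Set.range (pullback.fst a b) = a ⁻¹' Set.range b := Scheme.Pullback.range_fst a b
      rw [Scheme.Hom.comp_base, TopCat.coe_comp, Set.range_comp, h2, Set.image_preimage_eq_range_inter]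
    obtain ⟨e1⟩ := nonempty_H_sameRange c (pullback.fst a b ≫ a) h1 F n
    have e2 := (EtCore.pullComp (pullback.fst a b) a).app F
    exact ⟨e1.trans (nonempty_H_iso e2 n).some⟩

include hcov hint in
theorem good_union (hA : GoodE A ((EtCoh.pull a).obj F)) (hB : GoodE B ((EtCoh.pull b).obj F))
    (hC : GoodE C ((EtCoh.pull c).obj F)) : GoodE X F := by
  obtain ⟨U, j, _, U', j', _, C', c', _, h1, h2, h3, h4⟩ := key a b c hcov hint F
  have g1 : GoodE A (P j' ((EtCoh.pull a).obj F)) := good_P c' j' h2 _ hA (hC.congr h4)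
  exact good_whole b j h1 F (g1.congr fun n => ⟨(h3 n).some.symm⟩) hB

include hcov hint in
theorem good_inter (hX : GoodE X F) (hA : GoodE A ((EtCoh.pull a).obj F)) (hB : GoodE B ((EtCoh.pull b).obj F)) :
    GoodE C ((EtCoh.pull c).obj F) := by
  obtain ⟨U, j, _, U', j', _, C', c', _, h1, h2, h3, h4⟩ := key a b c hcov hint F
  have g1 : GoodE A (P j' ((EtCoh.pull a).obj F)) := (good_P b j h1 F hX hB).congr h3
  exact (good_closed c' j' h2 _ hA g1).congr fun n => ⟨(h4 n).some.symm⟩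

include hcov hint in
/-- `e (A ∪ B) = e A + e B - e (A ∩ B)`. -/
theorem e_union (hA : GoodE A ((EtCoh.pull a).obj F)) (hB : GoodE B ((EtCoh.pull b).obj F))
    (hC : GoodE C ((EtCoh.pull c).obj F)) :
    e X F = e A ((EtCoh.pull a).obj F) + e B ((EtCoh.pull b).obj F) - e C ((EtCoh.pull c).obj F) := by
  obtain ⟨U, j, _, U', j', _, C', c', _, h1, h2, h3, h4⟩ := key a b c hcov hint F
  have g1 : GoodE A (P j' ((EtCoh.pull a).obj F)) := good_P c' j' h2 _ hA (hC.congr h4)
  have e1 := e_closed_open b j h1 F (g1.congr fun n => ⟨(h3 n).some.symm⟩) hB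
  have e2 := e_closed_open c' j' h2 _ g1 (hC.congr h4)
  have e3 : e X (P j F) = e A (P j' ((EtCoh.pull a).obj F)) := e_congr h3
  have e4 : e C ((EtCoh.pull c).obj F) = e C' ((EtCoh.pull c').obj ((EtCoh.pull a).obj F)) := e_congr h4
  rw [e4]
  linarith

end Union

section Const

variable (ℓ : ℕ)

/-- `GoodE` for the constant sheaf `Z/ℓ`. -/
abbrev GoodC (X : Scheme.{u}) : Prop := GoodE X (EtCoh.const X (ZMod ℓ))

theorem good_pullConst_iff (f : A ⟶ X) :
    GoodE A ((EtCoh.pull f).obj (EtCoh.const X (ZMod ℓ))) ↔ GoodC ℓ A :=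
  ⟨fun h => GoodE.iso (EtCore.pullConst f (ZMod ℓ)) h, fun h => GoodE.iso (EtCore.pullConst f (ZMod ℓ)).symm h⟩

theorem e_pullConst (f : A ⟶ X) : e A ((EtCoh.pull f).obj (EtCoh.const X (ZMod ℓ))) = ec ℓ A :=
  e_iso (EtCore.pullConst f (ZMod ℓ))

theorem range_iso (f : A ≅ X) : Set.range f.hom = Set.range (𝟙 X : X ⟶ X) := by
  have h1 : Function.Surjective f.hom := f.hom.surjective
  have h2 : Function.Surjective (𝟙 X : X ⟶ X) := (𝟙 X : X ⟶ X).surjective
  rw [h1.range_eq, h2.range_eq]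

theorem ec_congr (f : A ≅ X) : ec ℓ A = ec ℓ X := by
  rw [← e_pullConst ℓ f.hom, ← e_pullConst ℓ (𝟙 X)]
  exact e_sameRange f.hom (𝟙 X) (range_iso f) _

theorem good_congr (f : A ≅ X) (h : GoodC ℓ X) : GoodC ℓ A := by
  have h1 := (good_pullConst_iff ℓ (𝟙 X)).2 h
  exact (good_pullConst_iff ℓ f.hom).1
    (h1.congr (fun n => nonempty_H_sameRange (𝟙 X) f.hom (range_iso f).symm _ n))

theorem ec_sameRange (a : A ⟶ X) [IsClosedImmersion a] (b : B ⟶ X) [IsClosedImmersion b]
    (h : Set.range a = Set.range b) : ec ℓ A = ec ℓ B := by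
  rw [← e_pullConst ℓ a, ← e_pullConst ℓ b]
  exact e_sameRange a b h _

theorem good_sameRange (a : A ⟶ X) [IsClosedImmersion a] (b : B ⟶ X) [IsClosedImmersion b]
    (h : Set.range a = Set.range b) (hA : GoodC ℓ A) : GoodC ℓ B :=
  (good_pullConst_iff ℓ b).1 (((good_pullConst_iff ℓ a).2 hA).congr fun n => nonempty_H_sameRange a b h _ n)

variable (a : A ⟶ X) [IsClosedImmersion a] (b : B ⟶ X) [IsClosedImmersion b] (c : C ⟶ X)
  [IsClosedImmersion c] (hcov : Set.range a ∪ Set.range b = Set.univ)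
  (hint : Set.range c = Set.range a ∩ Set.range b)

include hcov hint in
theorem goodC_union (hA : GoodC ℓ A) (hB : GoodC ℓ B) (hC : GoodC ℓ C) : GoodC ℓ X :=
  good_union a b c hcov hint _ ((good_pullConst_iff ℓ a).2 hA) ((good_pullConst_iff ℓ b).2 hB)
    ((good_pullConst_iff ℓ c).2 hC)

include hcov hint in
theorem ec_union (hA : GoodC ℓ A) (hB : GoodC ℓ B) (hC : GoodC ℓ C) :
    ec ℓ X = ec ℓ A + ec ℓ B - ec ℓ C := by
  have h := e_union a b c hcov hint _ ((good_pullConst_iff ℓ a).2 hA) ((good_pullConst_iff ℓ b).2 hB)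
    ((good_pullConst_iff ℓ c).2 hC)
  rw [e_pullConst, e_pullConst, e_pullConst] at h
  exact h

end Const

end Groth.Agent.Lefpen.H996.EulerClosed
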