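import Groth.Agent.Lefpen.H288.FamBC
import Groth.Agent.Lefpen.H996.EulerClosed
import Groth.Agent.Lefpen.H879.Lat

/-!
# The geometric generic fibre of the family `P + t Q`
-/

set_option autoImplicit false
universe u
open CategoryTheory CategoryTheory.Limits AlgebraicGeometry TopologicalSpace

namespace Groth.Agent.Lefpen.H996.FibGen

open LefPen Groth.Agent.Lefpen.H288.FamBC Groth.Agent.Lefpen.H879.Lat
open Groth.Agent.Lefpen.H714.EulerEt Groth.Agent.Lefpen.H996.EulerClosed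

variable {r : ℕ} {k : Type u} [Field k] {d : ℕ} {Z : Scheme.{u}} (i : Z ⟶ CohB1.ProjSpace r k)
  (P Q : Form r k d)

/-- The base change of the family along a ring homomorphism. -/
theorem nonempty_iso (A : Type u) [CommRing A] [Algebra k A] (t : A) {B : Type u} [CommRing B] [Algebra k B]
    (φ : A →+* B) (hφ : ∀ c : k, φ (algebraMap k A c) = algebraMap k B c) :
    Nonempty (pullback (famToA i P Q A t) (Spec.map (CommRingCat.ofHom φ)) ≅ Fam i P Q B (φ t)) := by
  let φ' : A →ₐ[k] B := { φ with commutes' := hφ }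
  obtain ⟨g, -, hg2⟩ := exists_isPullback_map i P Q φ' t (φ t) rfl
  exact ⟨hg2.isoPullback.symm⟩

variable {Ω : Type u} [Field Ω] [Algebra k Ω]

/-- The family in the parameter `1 / (t - c)`. -/
theorem nonempty_iso_swap (t : Ω) (c : k) (h : algebraMap k Ω c ≠ t) :
    Nonempty (Fam i P Q Ω t ≅ Fam i Q (P + c • Q) Ω (t - algebraMap k Ω c)⁻¹) := by
  have h1 : famIdeal i P Q t = famIdeal i (P + c • Q) Q (t - algebraMap k Ω c) := by
    rw [famIdeal_add, sub_add_cancel]
  have h2 : (t - algebraMap k Ω c) * (t - algebraMap k Ω c)⁻¹ = 1 :=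
    mul_inv_cancel₀ (sub_ne_zero.2 h.symm)
  have h3 := famIdeal_swap i (P + c • Q) Q h2
  have h4 : Fam i P Q Ω t = Fam i Q (P + c • Q) Ω (t - algebraMap k Ω c)⁻¹ := by
    rw [Fam, Fam, h1, h3]
  exact ⟨eqToIso h4⟩

/-- A non-constant stays non-constant. -/
theorem ne_inv (t : Ω) (h : ∀ c : k, algebraMap k Ω c ≠ t) (c e : k) :
    algebraMap k Ω e ≠ (t - algebraMap k Ω c)⁻¹ := by
  intro h1
  have h2 : e ≠ 0 := by
    rintro rfl
    rw [map_zero] at h1
    exact h c (sub_eq_zero.1 (inv_eq_zero.1 h1.symm)).symm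
  refine h (e⁻¹ + c) ?_
  rw [map_add, map_inv₀, h1, inv_inv, sub_add_cancel]

/-- Constancy: the fibre of `P + t Q` over a non-constant `t : Ω` and a transversal section `Q` (= the fibre at
infinity) have the same Euler characteristic. -/
def ConstGen (k : Type u) [Field k] (Ω : Type u) [Field Ω] [Algebra k Ω] (r ℓ : ℕ) : Prop :=
  ∀ (m d : ℕ) (J : (CohB1.ProjSpace r k).IdealSheafData) (P Q : Form r k d) (t : Ω),
    (∀ c : k, algebraMap k Ω c ≠ t) → Tr (m + 1) J → Tr m (J ⊔ hypIdeal Q) →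
      ec ℓ (Fam J.subschemeι P Q Ω t) = ec ℓ (J ⊔ hypIdeal Q).subscheme

section J

variable (J : (CohB1.ProjSpace r k).IdealSheafData)

/-- The other fibres. -/
theorem ec_fam_add (ℓ m : ℕ) (hC : ConstGen k Ω r ℓ) (hJ : Tr (m + 1) J) (t : Ω)
    (ht : ∀ c : k, algebraMap k Ω c ≠ t) (c : k) (hc : Tr m (J ⊔ hypIdeal (P + c • Q))) :
    ec ℓ (Fam J.subschemeι P Q Ω t) = ec ℓ (J ⊔ hypIdeal (P + c • Q)).subscheme := by
  obtain ⟨e⟩ := nonempty_iso_swap J.subschemeι P Q t c (ht c)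
  rw [ec_congr ℓ e]
  exact hC m d J Q (P + c • Q) _ (ne_inv t ht c) hJ hc

omit [Algebra k Ω] in
/-- The geometric generic fibre of the family over `A`, compared with the fibre at infinity. -/
theorem ec_gen (ℓ m : ℕ) (A : Type u) [CommRing A] [Algebra k A] (t : A) (φ : A →+* Ω)
    (hC : @ConstGen k _ Ω _ (φ.comp (algebraMap k A)).toAlgebra r ℓ) (hJ : Tr (m + 1) J)
    (ht : ∀ c : k, φ (algebraMap k A c) ≠ φ t) (hQ : Tr m (J ⊔ hypIdeal Q)) :
    ec ℓ (pullback (famToA J.subschemeι P Q A t) (Spec.map (CommRingCat.ofHom φ))) =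
      ec ℓ (J ⊔ hypIdeal Q).subscheme := by
  let _ : Algebra k Ω := (φ.comp (algebraMap k A)).toAlgebra
  obtain ⟨e⟩ := nonempty_iso J.subschemeι P Q A t φ (fun _ => rfl)
  rw [ec_congr ℓ e]
  exact hC m d J P Q _ ht hJ hQ

omit [Algebra k Ω] in
/-- The geometric generic fibre of the family over `A`, compared with the fibre at `c : k`. -/
theorem ec_gen_add (ℓ m : ℕ) (A : Type u) [CommRing A] [Algebra k A] (t : A) (φ : A →+* Ω)
    (hC : @ConstGen k _ Ω _ (φ.comp (algebraMap k A)).toAlgebra r ℓ) (hJ : Tr (m + 1) J)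
    (ht : ∀ c : k, φ (algebraMap k A c) ≠ φ t) (c : k) (hc : Tr m (J ⊔ hypIdeal (P + c • Q))) :
    ec ℓ (pullback (famToA J.subschemeι P Q A t) (Spec.map (CommRingCat.ofHom φ))) =
      ec ℓ (J ⊔ hypIdeal (P + c • Q)).subscheme := by
  let _ : Algebra k Ω := (φ.comp (algebraMap k A)).toAlgebra
  obtain ⟨e⟩ := nonempty_iso J.subschemeι P Q A t φ (fun _ => rfl)
  rw [ec_congr ℓ e]
  exact ec_fam_add P Q J ℓ m hC hJ _ ht c hc

end J

end Groth.Agent.Lefpen.H996.FibGen
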