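import Groth.Agent.Lefpen.H996.ConicAbs
import Groth.Agent.Sga5.ProjCoh

/-!
# The Euler characteristics of the conic, the lines and the point over a separably closed field
-/

set_option autoImplicit false
universe u
open CategoryTheory CategoryTheory.Limits AlgebraicGeometry MvPolynomial

namespace Groth.Agent.Lefpen.H996.ConicVal

open LefPen Groth.Agent.Lefpen.H705.HypIdeal Groth.Agent.Lefpen.H996.Conic
open Groth.Agent.Lefpen.H996.HypTwo Groth.Agent.Lefpen.H996.EulerClosed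
open Groth.Agent.Lefpen.H714.EulerAlg Groth.Agent.Lefpen.H714.EulerEt

variable (k : Type u) [Field k] [IsSepClosed k] (ℓ : ℕ) (hℓ : (ℓ : k) ≠ 0)

include hℓ

theorem neZero : NeZero ℓ := ⟨by rintro rfl; simp at hℓ⟩

theorem affineSpace (m : ℕ) : GoodC ℓ (Spec (CommRingCat.of (MvPolynomial (Fin m) k))) ∧
    ec ℓ (Spec (CommRingCat.of (MvPolynomial (Fin m) k))) = Real.log ℓ := by
  have := neZero k ℓ hℓ
  have : ConnectedSpace (Spec (CommRingCat.of (MvPolynomial (Fin m) k))) := by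
    have : IrreducibleSpace (Spec (CommRingCat.of (MvPolynomial (Fin m) k))) :=
      inferInstanceAs (IrreducibleSpace (PrimeSpectrum (MvPolynomial (Fin m) k)))
    infer_instance
  exact ConicAbs.good_of_acyclic ℓ _ (Etrest.SHPoint.nonempty_H0_const _ (ZMod ℓ))
    fun q hq => Sga5.ProjCoh.subsingleton_H_spec k ℓ hℓ m q hq

theorem line : GoodC ℓ (A1 k) ∧ ec ℓ (A1 k) = Real.log ℓ := affineSpace k ℓ hℓ 1

theorem point : GoodC ℓ (Spec (CommRingCat.of k)) ∧ ec ℓ (Spec (CommRingCat.of k)) = Real.log ℓ := by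
  have := neZero k ℓ hℓ
  have : ConnectedSpace (Spec (CommRingCat.of k)) := by
    have : IrreducibleSpace (Spec (CommRingCat.of k)) :=
      inferInstanceAs (IrreducibleSpace (PrimeSpectrum k))
    infer_instance
  exact ConicAbs.good_of_acyclic ℓ _ (Etrest.SHPoint.nonempty_H0_const _ (ZMod ℓ))
    fun q hq => Etrest.SHPoint.subsingleton_H_of_sepClosed k _ q hq

theorem projLine : GoodC ℓ (CohB1.ProjSpace 1 k) ∧ ec ℓ (CohB1.ProjSpace 1 k) = 2 * Real.log ℓ := by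
  have := neZero k ℓ hℓ
  exact ConicAbs.good_of_sphere ℓ _ (Sga5.ProjCoh.even k ℓ hℓ 1 0 (by omega)) (Sga5.ProjCoh.even k ℓ hℓ 1 1 (by omega))
    (Sga5.ProjCoh.odd_or_large k ℓ hℓ 1 1 (Or.inl (by decide)))
    fun q hq => Sga5.ProjCoh.odd_or_large k ℓ hℓ 1 q (Or.inr (by omega))

/-- The conics `x₀ x₁ + c x₂²`, `c ≠ 0`. -/
theorem conic (c : k) (hc : c ≠ 0) : GoodC ℓ (hypIdeal (Conic.conic c)).subscheme ∧
      ec ℓ (hypIdeal (Conic.conic c)).subscheme = 2 * Real.log ℓ :=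
  (ConicAbs.values ℓ (line k ℓ hℓ).1 (projLine k ℓ hℓ).1 (point k ℓ hℓ).1 (projLine k ℓ hℓ).2 (point k ℓ hℓ).2).1 c hc

/-- The line `x₀ = 0`. -/
theorem co_zero : GoodC ℓ (hypIdeal (co k 0)).subscheme ∧ ec ℓ (hypIdeal (co k 0)).subscheme = 2 * Real.log ℓ :=
  (ConicAbs.values ℓ (line k ℓ hℓ).1 (projLine k ℓ hℓ).1 (point k ℓ hℓ).1 (projLine k ℓ hℓ).2 (point k ℓ hℓ).2).2.1

/-- The line `x₁ = 0`. -/
theorem co_one : GoodC ℓ (hypIdeal (co k 1)).subscheme ∧ ec ℓ (hypIdeal (co k 1)).subscheme = 2 * Real.log ℓ :=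
  (ConicAbs.values ℓ (line k ℓ hℓ).1 (projLine k ℓ hℓ).1 (point k ℓ hℓ).1 (projLine k ℓ hℓ).2 (point k ℓ hℓ).2).2.2.1

/-- The point `x₀ = x₁ = 0`. -/
theorem co_inf : GoodC ℓ (hypIdeal (co k 0) ⊔ hypIdeal (co k 1)).subscheme ∧
      ec ℓ (hypIdeal (co k 0) ⊔ hypIdeal (co k 1)).subscheme = Real.log ℓ :=
  (ConicAbs.values ℓ (line k ℓ hℓ).1 (projLine k ℓ hℓ).1 (point k ℓ hℓ).1 (projLine k ℓ hℓ).2
    (point k ℓ hℓ).2).2.2.2.1

/-- The two lines `x₀ x₁ = 0`. -/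
theorem cross : GoodC ℓ (hypIdeal (Conic.cross k)).subscheme ∧
      ec ℓ (hypIdeal (Conic.cross k)).subscheme = 3 * Real.log ℓ :=
  (ConicAbs.values ℓ (line k ℓ hℓ).1 (projLine k ℓ hℓ).1 (point k ℓ hℓ).1 (projLine k ℓ hℓ).2
    (point k ℓ hℓ).2).2.2.2.2

end Groth.Agent.Lefpen.H996.ConicVal
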