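import Groth.Agent.Lefpen.H996.HypRange

/-!
# Euler characteristics of the conic `x₀ x₁ + c x₂²`, of the lines `x₀ = 0`, `x₁ = 0` and of `x₀ x₁ = 0` in the plane
-/

set_option autoImplicit false
universe u
open CategoryTheory CategoryTheory.Limits AlgebraicGeometry MvPolynomial

namespace Groth.Agent.Lefpen.H996.Conic

open LefPen Groth.Agent.Lefpen.H705.HypIdeal Groth.Agent.Lefpen.H705.ChartPoly
open Groth.Agent.Lefpen.H996.HypChart Groth.Agent.Lefpen.H996.HypTwo Groth.Agent.Lefpen.H996.HypRange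
open Groth.Agent.Lefpen.H996.EulerClosed Groth.Agent.Lefpen.H714.EulerEt
open Groth.Agent.Sga5

section Forms

variable (k : Type u) [Field k]

/-- The coordinate `x_i` of the plane. -/
noncomputable def co (i : Fin 3) : Form 2 k 1 := ⟨X i, LefPen.X_mem 2 k i⟩

variable {k}

/-- The conic `x₀ x₁ + c x₂²`. -/
noncomputable def conic (c : k) : Form 2 k 2 :=
  ⟨X 0 * X 1 + C c * X 2 ^ 2, (mem_homogeneousSubmodule 2 _).mpr (by
    refine IsHomogeneous.add ((isHomogeneous_X k 0).mul (isHomogeneous_X k 1)) ?_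
    have := (isHomogeneous_C (Fin 3) c).mul (isHomogeneous_X_pow (R := k) (2 : Fin 3) 2)
    rwa [zero_add] at this)⟩

variable (k) in
/-- The pair of lines `x₀ x₁ = 0`. -/
noncomputable def cross : Form 2 k 2 :=
  ⟨X 0 * X 1, (mem_homogeneousSubmodule 2 _).mpr ((isHomogeneous_X k 0).mul (isHomogeneous_X k 1))⟩

theorem dX (j i : Fin 3) (l : Fin 2) (h : j.succAbove l = i) :
    ProjChart.dehom 2 k j (X i) = X l := by
  subst h
  exact ProjChart.dehom_X 2 k j l

theorem dehom_conic_zero (c : k) : ProjChart.dehom 2 k 0 (conic c).1 = X 0 + C c * X 1 ^ 2 := by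
  rw [conic, map_add, map_mul, map_mul, map_pow, ProjChart.dehom_C, ProjChart.dehom_X_self, dX 0 1 0 rfl,
    dX 0 2 1 rfl, one_mul]

theorem dehom_conic_one (c : k) : ProjChart.dehom 2 k 1 (conic c).1 = X 0 + C c * X 1 ^ 2 := by
  rw [conic, map_add, map_mul, map_mul, map_pow, ProjChart.dehom_C, ProjChart.dehom_X_self, dX 1 0 0 rfl,
    dX 1 2 1 rfl, mul_one]

theorem dehom_conic_two (c : k) : ProjChart.dehom 2 k 2 (conic c).1 = X 0 * X 1 + C c := by
  rw [conic, map_add, map_mul, map_mul, map_pow, ProjChart.dehom_C, ProjChart.dehom_X_self, dX 2 0 0 rfl,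
    dX 2 1 1 rfl, one_pow, mul_one]

end Forms

variable {k : Type u} [Field k] (ℓ : ℕ)

theorem C_notMem {σ : Type*} {c : k} (hc : c ≠ 0) (I : Ideal (MvPolynomial σ k)) (hI : I ≠ ⊤) : C c ∉ I := by
  intro h
  exact hI (Ideal.eq_top_of_isUnit_mem _ h ((IsUnit.mk0 c hc).map C))

/-- A plane curve with two charts isomorphic to the affine line. -/
theorem ec_of_charts {d : ℕ} (G : Form 2 k d) (j₁ j₂ : Fin 3)
    (a₁ b₁ a₂ b₂ : Fin 2) (hab₁ : b₁ ≠ a₁) (hab₂ : b₂ ≠ a₂) (f₁ f₂ : MvPolynomial (Fin 1) k)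
    (h₁ : ProjChart.dehom 2 k j₁ G.1 = X a₁ - rename (fun _ => b₁) f₁)
    (h₂ : ProjChart.dehom 2 k j₂ G.1 = X a₂ - rename (fun _ => b₂) f₂)
    (hD : ∀ p : A1 k, sub a₁ f₁ (ProjChart.dehom 2 k j₁ (X j₂)) ∈ p.asIdeal ↔
      (X 0 : MvPolynomial (Fin 1) k) ∈ p.asIdeal)
    (hcov : ∀ y : (hypIdeal G).subscheme, (hypIdeal G).subschemeι y ∈ LefPen.chart 2 k j₁ ∨
      (hypIdeal G).subschemeι y ∈ LefPen.chart 2 k j₂) (hA : GoodC ℓ (A1 k)) :
    (GoodC ℓ (D1 k) → GoodC ℓ (hypIdeal G).subscheme ∧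
      ec ℓ (hypIdeal G).subscheme = 2 * ec ℓ (A1 k) - ec ℓ (D1 k)) := by
  intro hDg
  obtain ⟨g₁, hg₁⟩ := exists_chart_hyp G j₁ (sub a₁ f₁).toRingHom (sub_surjective a₁ b₁ hab₁ f₁)
    (by rw [ker_sub a₁ b₁ hab₁, h₁])
  obtain ⟨g₂, hg₂⟩ := exists_chart_hyp G j₂ (sub a₂ f₂).toRingHom (sub_surjective a₂ b₂ hab₂ f₂)
    (by rw [ker_sub a₂ b₂ hab₂, h₂])
  obtain ⟨i₁, i₂, h3, h4⟩ := exists_twoCharts (hypIdeal G) j₁ j₂ _ _ hg₁ hg₂ hD hcov
  have hX := TwoCharts.good ℓ g₁ g₂ (D1 k).ι h3 h4 hA hDg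
  exact ⟨hX, TwoCharts.ec_eq ℓ g₁ g₂ (D1 k).ι h3 h4 hA hX⟩

/-- The projective line has two charts isomorphic to the affine line. -/
theorem projLine (hA : GoodC ℓ (A1 k)) (hP : GoodC ℓ (CohB1.ProjSpace 1 k)) :
    GoodC ℓ (D1 k) ∧ ec ℓ (CohB1.ProjSpace 1 k) = 2 * ec ℓ (A1 k) - ec ℓ (D1 k) := by
  have h3 : Set.range (ProjSmooth.chart 1 k 0) ∪ Set.range (ProjSmooth.chart 1 k 1) = Set.univ := by
    rw [Set.eq_univ_iff_forall]
    intro y
    obtain ⟨j, z, rfl⟩ := exists_chart_eq y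
    have hj : j = 0 ∨ j = 1 := (by decide : ∀ j : Fin 2, j = 0 ∨ j = 1) j
    rcases hj with rfl | rfl
    · exact Or.inl ⟨z, rfl⟩
    · exact Or.inr ⟨z, rfl⟩
  have h4 : ∀ p, ProjSmooth.chart 1 k 0 p ∈ Set.range (ProjSmooth.chart 1 k 1) ↔ p ∈ Set.range (D1 k).ι := by
    intro p
    have h5 : ProjChart.dehom 1 k 0 (X 1) = X 0 := ProjChart.dehom_X 1 k 0 0
    rw [mem_range_chart, chart_mem_iff, h5, Scheme.Opens.range_ι]
    exact Iff.rfl
  exact ⟨TwoCharts.good_inter ℓ _ _ (D1 k).ι h3 h4 hA hP, TwoCharts.ec_eq ℓ _ _ (D1 k).ι h3 h4 hA hP⟩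

/-- Points of a hypersurface on the charts. -/
theorem exists_prime {d : ℕ} (G : Form 2 k d) (y : (hypIdeal G).subscheme) :
    ∃ (j : Fin 3) (z : Spec (CommRingCat.of (MvPolynomial (Fin 2) k))),
      ProjSmooth.chart 2 k j z = (hypIdeal G).subschemeι y ∧ ProjChart.dehom 2 k j G.1 ∈ z.asIdeal := by
  obtain ⟨j, z, hz⟩ := exists_chart_eq ((hypIdeal G).subschemeι y)
  refine ⟨j, z, hz, ?_⟩
  rw [← chart_mem_range_hyp_iff, hz]
  exact ⟨y, rfl⟩

theorem good_conic {c : k} (hc : c ≠ 0) (hA : GoodC ℓ (A1 k)) (hP : GoodC ℓ (CohB1.ProjSpace 1 k)) :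
    GoodC ℓ (hypIdeal (conic c)).subscheme ∧ ec ℓ (hypIdeal (conic c)).subscheme = ec ℓ (CohB1.ProjSpace 1 k) := by
  obtain ⟨hD, hP2⟩ := projLine ℓ hA hP
  have h0 : (X 0 + C c * X 1 ^ 2 : MvPolynomial (Fin 2) k) =
      X 0 - rename (fun _ => 1) (-(C c * X 0 ^ 2) : MvPolynomial (Fin 1) k) := by
    simp
  have key := ec_of_charts ℓ (conic c) 0 1 0 1 0 1 (by decide) (by decide) (-(C c * X 0 ^ 2)) (-(C c * X 0 ^ 2))
    ((dehom_conic_zero c).trans h0) ((dehom_conic_one c).trans h0) (fun p => by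
      rw [dX 0 1 0 rfl, sub, aeval_X, if_pos rfl, neg_mem_iff]
      constructor
      · intro h
        rcases p.isPrime.mem_or_mem h with h | h
        · exact absurd h (C_notMem hc _ p.isPrime.ne_top)
        · exact p.isPrime.mem_of_pow_mem _ h
      · intro h
        exact Ideal.mul_mem_left _ _ (Ideal.pow_mem_of_mem _ h 2 (by norm_num))) (fun y => by
      obtain ⟨j, z, hz, hy⟩ := exists_prime (conic c) y
      rw [← hz]
      have hj : j = 0 ∨ j = 1 ∨ j = 2 := by omega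
      rcases hj with rfl | rfl | rfl
      · left
        rw [← mem_range_chart]
        exact ⟨z, rfl⟩
      · right
        rw [← mem_range_chart]
        exact ⟨z, rfl⟩
      · left
        rw [chart_mem_iff, dX 2 0 0 rfl]
        intro h
        rw [dehom_conic_two] at hy
        have h1 : C c ∈ z.asIdeal := by
          have := Ideal.sub_mem _ hy (Ideal.mul_mem_right (X 1) _ h)
          rwa [add_sub_cancel_left] at this
        exact C_notMem hc _ z.isPrime.ne_top h1) hA hD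
  rw [hP2]
  exact key

theorem rename_zero' (b : Fin 2) : (rename (fun _ => b) (0 : MvPolynomial (Fin 1) k)) = 0 := map_zero _

/-- The line `x₀ = 0`. -/
theorem good_co_zero (hA : GoodC ℓ (A1 k)) (hP : GoodC ℓ (CohB1.ProjSpace 1 k)) :
    GoodC ℓ (hypIdeal (co k 0)).subscheme ∧ ec ℓ (hypIdeal (co k 0)).subscheme = ec ℓ (CohB1.ProjSpace 1 k) := by
  obtain ⟨hD, hP2⟩ := projLine ℓ hA hP
  have key := ec_of_charts ℓ (co k 0) 1 2 0 1 0 1 (by decide) (by decide) 0 0
    (by rw [rename_zero', sub_zero]; exact dX 1 0 0 rfl) (by rw [rename_zero', sub_zero]; exact dX 2 0 0 rfl)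
    (fun p => by rw [dX 1 2 1 rfl, sub, aeval_X, if_neg (by decide)]) (fun y => by
      obtain ⟨j, z, hz, hy⟩ := exists_prime (co k 0) y
      rw [← hz]
      have hj : j = 0 ∨ j = 1 ∨ j = 2 := by omega
      rcases hj with rfl | rfl | rfl
      · exfalso
        have h1 : ProjChart.dehom 2 k 0 (co k 0).1 = 1 := ProjChart.dehom_X_self 2 k 0
        rw [h1] at hy
        exact z.isPrime.ne_top (Ideal.eq_top_iff_one _ |>.2 hy)
      · left
        rw [← mem_range_chart]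
        exact ⟨z, rfl⟩
      · right
        rw [← mem_range_chart]
        exact ⟨z, rfl⟩) hA hD
  rw [hP2]
  exact key

/-- The line `x₁ = 0`. -/
theorem good_co_one (hA : GoodC ℓ (A1 k)) (hP : GoodC ℓ (CohB1.ProjSpace 1 k)) :
    GoodC ℓ (hypIdeal (co k 1)).subscheme ∧ ec ℓ (hypIdeal (co k 1)).subscheme = ec ℓ (CohB1.ProjSpace 1 k) := by
  obtain ⟨hD, hP2⟩ := projLine ℓ hA hP
  have key := ec_of_charts ℓ (co k 1) 0 2 0 1 1 0 (by decide) (by decide) 0 0
    (by rw [rename_zero', sub_zero]; exact dX 0 1 0 rfl) (by rw [rename_zero', sub_zero]; exact dX 2 1 1 rfl)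
    (fun p => by rw [dX 0 2 1 rfl, sub, aeval_X, if_neg (by decide)]) (fun y => by
      obtain ⟨j, z, hz, hy⟩ := exists_prime (co k 1) y
      rw [← hz]
      have hj : j = 0 ∨ j = 1 ∨ j = 2 := by omega
      rcases hj with rfl | rfl | rfl
      · left
        rw [← mem_range_chart]
        exact ⟨z, rfl⟩
      · exfalso
        have h1 : ProjChart.dehom 2 k 1 (co k 1).1 = 1 := ProjChart.dehom_X_self 2 k 1
        rw [h1] at hy
        exact z.isPrime.ne_top (Ideal.eq_top_iff_one _ |>.2 hy)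
      · right
        rw [← mem_range_chart]
        exact ⟨z, rfl⟩) hA hD
  rw [hP2]
  exact key

/-- Constants modulo the coordinates. -/
theorem ker_constantCoeff_two :
    RingHom.ker (constantCoeff : MvPolynomial (Fin 2) k →+* k) = Ideal.span {X 0} ⊔ Ideal.span {X 1} := by
  apply le_antisymm
  · intro p hp
    have key : ∀ p : MvPolynomial (Fin 2) k, p - C (constantCoeff p) ∈
        Ideal.span {(X 0 : MvPolynomial (Fin 2) k)} ⊔ Ideal.span {X 1} := by
      intro p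
      induction p using MvPolynomial.induction_on with
      | C c => rw [constantCoeff_C, sub_self]; exact Ideal.zero_mem _
      | add p q hp hq =>
        have := Ideal.add_mem _ hp hq
        rw [map_add, map_add]
        convert this using 1
        ring
      | mul_X p i hp =>
        have h1 : constantCoeff (p * X i) = 0 := by rw [map_mul, constantCoeff_X, mul_zero]
        rw [h1, map_zero, sub_zero]
        refine Ideal.mul_mem_left _ _ ?_
        have hi : i = 0 ∨ i = 1 := by omega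
        rcases hi with rfl | rfl
        · exact Ideal.mem_sup_left (Ideal.mem_span_singleton_self _)
        · exact Ideal.mem_sup_right (Ideal.mem_span_singleton_self _)
    have h1 := key p
    have h2 : constantCoeff p = 0 := hp
    rw [h2, map_zero, sub_zero] at h1
    exact h1
  · rw [sup_le_iff, Ideal.span_singleton_le_iff_mem, Ideal.span_singleton_le_iff_mem, RingHom.mem_ker,
      RingHom.mem_ker]
    exact ⟨constantCoeff_X _ _, constantCoeff_X _ _⟩

/-- The point `x₀ = x₁ = 0` is `Spec k`. -/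
theorem nonempty_iso_pt : Nonempty (Spec (CommRingCat.of k) ≅ (hypIdeal (co k 0) ⊔ hypIdeal (co k 1)).subscheme) := by
  have h0 := ideal_sup_hyp (co k 0) (co k 1) 2
  have e0 : ProjChart.dehom 2 k 2 (co k 0).1 = X 0 := dX 2 0 0 rfl
  have e1 : ProjChart.dehom 2 k 2 (co k 1).1 = X 1 := dX 2 1 1 rfl
  rw [e0, e1] at h0
  obtain ⟨g, hg⟩ := exists_chart _ 2 _ h0 (constantCoeff : MvPolynomial (Fin 2) k →+* k)
    (fun c => ⟨C c, constantCoeff_C _ c⟩) ker_constantCoeff_two
  have h1 : IsOpenImmersion g := MorphismProperty.of_isPullback hg inferInstance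
  have h2 : Function.Surjective g := by
    intro y
    rw [← Set.mem_range, range_of_isPullback hg, mem_range_chart]
    obtain ⟨j, z, hz⟩ := exists_chart_eq ((hypIdeal (co k 0) ⊔ hypIdeal (co k 1)).subschemeι y)
    have hy : ProjSmooth.chart 2 k j z ∈ Set.range (hypIdeal (co k 0) ⊔ hypIdeal (co k 1)).subschemeι := by
      rw [hz]; exact ⟨y, rfl⟩
    rw [chart_mem_range_sup_iff] at hy
    rw [← hz]
    have hj : j = 0 ∨ j = 1 ∨ j = 2 := (by decide : ∀ j : Fin 3, j = 0 ∨ j = 1 ∨ j = 2) j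
    rcases hj with rfl | rfl | rfl
    · exfalso
      have h1 : ProjChart.dehom 2 k 0 (co k 0).1 = 1 := ProjChart.dehom_X_self 2 k 0
      rw [h1] at hy
      exact z.isPrime.ne_top (Ideal.eq_top_iff_one _ |>.2 hy.1)
    · exfalso
      have h1 : ProjChart.dehom 2 k 1 (co k 1).1 = 1 := ProjChart.dehom_X_self 2 k 1
      rw [h1] at hy
      exact z.isPrime.ne_top (Ideal.eq_top_iff_one _ |>.2 hy.2)
    · rw [← mem_range_chart]
      exact ⟨z, rfl⟩
  have h3 : Surjective g := ⟨h2⟩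
  have h4 : IsIso g := (isIso_iff_isOpenImmersion_and_surjective g).2 ⟨h1, h3⟩
  exact ⟨asIso g⟩

/-- A union of two closed subschemes. -/
theorem union_in {A B C T X : Scheme.{u}} (t : T ⟶ X) [IsClosedImmersion t] (a : A ⟶ X) [IsClosedImmersion a]
    (b : B ⟶ X) [IsClosedImmersion b] (c : C ⟶ X) [IsClosedImmersion c]
    (hT : Set.range t = Set.range a ∪ Set.range b) (hC : Set.range c = Set.range a ∩ Set.range b)
    (gA : GoodC ℓ A) (gB : GoodC ℓ B) (gC : GoodC ℓ C) :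
    GoodC ℓ T ∧ ec ℓ T = ec ℓ A + ec ℓ B - ec ℓ C := by
  have aux : ∀ {D : Scheme.{u}} (e : D ⟶ X) [IsClosedImmersion e], Set.range e ⊆ Set.range t → GoodC ℓ D →
      GoodC ℓ (pullback t e) ∧ ec ℓ (pullback t e) = ec ℓ D := by
    intro D e _ he gD
    have h1 : Set.range (pullback.snd t e) = Set.range (𝟙 D : D ⟶ D) := by
      have h2 : Function.Surjective (𝟙 D : D ⟶ D) := (𝟙 D : D ⟶ D).surjective
      rw [h2.range_eq, Scheme.Pullback.range_snd, Set.eq_univ_iff_forall]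
      exact fun x => he ⟨x, rfl⟩
    exact ⟨good_sameRange ℓ (𝟙 D) (pullback.snd t e) h1.symm gD, ec_sameRange ℓ (pullback.snd t e) (𝟙 D) h1⟩
  obtain ⟨gA', eA⟩ := aux a (hT ▸ Set.subset_union_left) gA
  obtain ⟨gB', eB⟩ := aux b (hT ▸ Set.subset_union_right) gB
  obtain ⟨gC', eC⟩ := aux c (by rw [hC, hT]; exact Set.inter_subset_left.trans Set.subset_union_left) gC
  have hcov : Set.range (pullback.fst t a) ∪ Set.range (pullback.fst t b) = Set.univ := by
    rw [Scheme.Pullback.range_fst, Scheme.Pullback.range_fst, ← Set.preimage_union, ← hT,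
      Set.preimage_range]
  have hint : Set.range (pullback.fst t c) = Set.range (pullback.fst t a) ∩ Set.range (pullback.fst t b) := by
    rw [Scheme.Pullback.range_fst, Scheme.Pullback.range_fst, Scheme.Pullback.range_fst, ← Set.preimage_inter, hC]
  refine ⟨goodC_union ℓ _ _ _ hcov hint gA' gB' gC', ?_⟩
  rw [ec_union ℓ _ _ _ hcov hint gA' gB' gC', eA, eB, eC]

/-- The pair of lines. -/
theorem good_cross (hA : GoodC ℓ (A1 k)) (hP : GoodC ℓ (CohB1.ProjSpace 1 k))
    (hpt : GoodC ℓ (Spec (CommRingCat.of k))) :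
    GoodC ℓ (hypIdeal (cross k)).subscheme ∧
      ec ℓ (hypIdeal (cross k)).subscheme = 2 * ec ℓ (CohB1.ProjSpace 1 k) - ec ℓ (Spec (CommRingCat.of k)) := by
  obtain ⟨g0, e0⟩ := good_co_zero ℓ hA hP
  obtain ⟨g1, e1⟩ := good_co_one ℓ hA hP
  obtain ⟨i⟩ := nonempty_iso_pt (k := k)
  have g2 := good_congr ℓ i.symm hpt
  have e2 := ec_congr ℓ i.symm
  obtain ⟨g3, e3⟩ := union_in ℓ (hypIdeal (cross k)).subschemeι (hypIdeal (co k 0)).subschemeι
    (hypIdeal (co k 1)).subschemeι (hypIdeal (co k 0) ⊔ hypIdeal (co k 1)).subschemeι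
    (range_mul (co k 0) (co k 1) (cross k) rfl) (range_sup (co k 0) (co k 1)) g0 g1 g2
  refine ⟨g3, ?_⟩
  rw [e3, e0, e1, e2]
  ring

end Groth.Agent.Lefpen.H996.Conic
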