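import Groth.Agent.Lefpen.H996.Conic

/-!
# Values of the Euler characteristics of the conic, the lines and the point
-/

set_option autoImplicit false
universe u
open CategoryTheory CategoryTheory.Limits AlgebraicGeometry MvPolynomial

namespace Groth.Agent.Lefpen.H996.ConicAbs

open LefPen Groth.Agent.Lefpen.H705.HypIdeal Groth.Agent.Lefpen.H996.Conic
open Groth.Agent.Lefpen.H996.HypTwo Groth.Agent.Lefpen.H996.EulerClosed
open Groth.Agent.Lefpen.H714.EulerAlg Groth.Agent.Lefpen.H714.EulerEt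

section Values

variable (ℓ : ℕ) [NeZero ℓ] (X : Scheme.{u})

/-- A scheme with the cohomology of a point. -/
theorem good_of_acyclic (h0 : Nonempty (EtCoh.H X (EtCoh.const X (ZMod ℓ)) 0 ≃+ ZMod ℓ))
    (h : ∀ q, 0 < q → Subsingleton (EtCoh.H X (EtCoh.const X (ZMod ℓ)) q)) :
    GoodC ℓ X ∧ ec ℓ X = Real.log ℓ := by
  obtain ⟨e0⟩ := h0
  have hfin : Finite (EtCoh.H X (EtCoh.const X (ZMod ℓ)) 0) := Finite.of_equiv _ e0.symm.toEquiv
  refine ⟨⟨fun n => ?_, 0, fun n hn => h n hn⟩, ?_⟩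
  · rcases Nat.eq_zero_or_pos n with rfl | hn
    · exact hfin
    · have := h n hn
      change Finite (EtCoh.H X (EtCoh.const X (ZMod ℓ)) n)
      infer_instance
  · have h1 : ec ℓ X = ∑ n ∈ Finset.range (0 + 1), (-1 : ℝ) ^ n * lg (EtCoh.H X (EtCoh.const X (ZMod ℓ)) n) :=
      chi_eq_sum 0 fun n hn => h n hn
    rw [h1]
    simp only [zero_add, Finset.range_one, Finset.sum_singleton, pow_zero, one_mul]
    rw [lg_congr e0.toEquiv, lg, Nat.card_zmod]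

/-- A scheme with the cohomology of the projective line. -/
theorem good_of_sphere (h0 : Nonempty (EtCoh.H X (EtCoh.const X (ZMod ℓ)) 0 ≃+ ZMod ℓ))
    (h2 : Nonempty (EtCoh.H X (EtCoh.const X (ZMod ℓ)) 2 ≃+ ZMod ℓ))
    (h1 : Subsingleton (EtCoh.H X (EtCoh.const X (ZMod ℓ)) 1))
    (h : ∀ q, 2 < q → Subsingleton (EtCoh.H X (EtCoh.const X (ZMod ℓ)) q)) :
    GoodC ℓ X ∧ ec ℓ X = 2 * Real.log ℓ := by
  obtain ⟨e0⟩ := h0
  obtain ⟨e2⟩ := h2
  have hf0 : Finite (EtCoh.H X (EtCoh.const X (ZMod ℓ)) 0) := Finite.of_equiv _ e0.symm.toEquiv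
  have hf2 : Finite (EtCoh.H X (EtCoh.const X (ZMod ℓ)) 2) := Finite.of_equiv _ e2.symm.toEquiv
  refine ⟨⟨fun n => ?_, 2, fun n hn => h n hn⟩, ?_⟩
  · change Finite (EtCoh.H X (EtCoh.const X (ZMod ℓ)) n)
    rcases (by omega : n = 0 ∨ n = 1 ∨ n = 2 ∨ 2 < n) with rfl | rfl | rfl | hn
    · exact hf0
    · infer_instance
    · exact hf2
    · have := h n hn
      infer_instance
  · have h3 : ec ℓ X = ∑ n ∈ Finset.range (2 + 1), (-1 : ℝ) ^ n * lg (EtCoh.H X (EtCoh.const X (ZMod ℓ)) n) :=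
      chi_eq_sum 2 fun n hn => h n hn
    rw [h3, Finset.sum_range_succ, Finset.sum_range_succ, Finset.sum_range_one,
      lg_congr e0.toEquiv, lg_congr e2.toEquiv, lg_of_subsingleton (EtCoh.H X (EtCoh.const X (ZMod ℓ)) 1),
      lg, Nat.card_zmod]
    ring

end Values

section Main

variable {k : Type u} [Field k] (ℓ : ℕ)

/-- All the values, from the projective line, the affine line and the point. -/
theorem values (hA : GoodC ℓ (A1 k)) (hP : GoodC ℓ (CohB1.ProjSpace 1 k)) (hpt : GoodC ℓ (Spec (CommRingCat.of k)))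
    (eP : ec ℓ (CohB1.ProjSpace 1 k) = 2 * Real.log ℓ) (ept : ec ℓ (Spec (CommRingCat.of k)) = Real.log ℓ) :
    (∀ c : k, c ≠ 0 → GoodC ℓ (hypIdeal (conic c)).subscheme ∧
      ec ℓ (hypIdeal (conic c)).subscheme = 2 * Real.log ℓ) ∧
    (GoodC ℓ (hypIdeal (co k 0)).subscheme ∧ ec ℓ (hypIdeal (co k 0)).subscheme = 2 * Real.log ℓ) ∧
    (GoodC ℓ (hypIdeal (co k 1)).subscheme ∧ ec ℓ (hypIdeal (co k 1)).subscheme = 2 * Real.log ℓ) ∧
    (GoodC ℓ (hypIdeal (co k 0) ⊔ hypIdeal (co k 1)).subscheme ∧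
      ec ℓ (hypIdeal (co k 0) ⊔ hypIdeal (co k 1)).subscheme = Real.log ℓ) ∧
    (GoodC ℓ (hypIdeal (cross k)).subscheme ∧ ec ℓ (hypIdeal (cross k)).subscheme = 3 * Real.log ℓ) := by
  obtain ⟨g0, e0⟩ := good_co_zero ℓ hA hP
  obtain ⟨g1, e1⟩ := good_co_one ℓ hA hP
  obtain ⟨gx, ex⟩ := good_cross ℓ hA hP hpt
  obtain ⟨i⟩ := nonempty_iso_pt (k := k)
  refine ⟨fun c hc => ?_, ⟨g0, e0.trans eP⟩, ⟨g1, e1.trans eP⟩,
    ⟨good_congr ℓ i.symm hpt, (ec_congr ℓ i.symm).trans ept⟩, gx, ?_⟩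
  · obtain ⟨gc, ec'⟩ := good_conic ℓ hc hA hP
    exact ⟨gc, ec'.trans eP⟩
  · rw [ex, eP, ept]
    ring

end Main

end Groth.Agent.Lefpen.H996.ConicAbs
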