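import Groth.Agent.Lefpen.H714.EulerAlg
import Mathlib.Algebra.Homology.DerivedCategory.Ext.ExactSequences

/-!
# Additivity of the Euler characteristic `n ↦ Ext^n(-, F)` in short exact sequences
-/

set_option autoImplicit false
universe w v u
open CategoryTheory CategoryTheory.Limits CategoryTheory.Abelian

namespace Groth.Agent.Lefpen.H996.EulerExtC

open Groth.Agent.Lefpen.H714 Groth.Agent.Lefpen.H714.EulerAlg

variable {B : Type u} [Category.{v} B] [Abelian B] [HasExt.{w} B] (F : B)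

/-- `Ext^n(Z, F)` as a family. -/
abbrev XE (Z : B) (n : ℕ) : Type w := Ext.{w} Z F n

noncomputable def pf {Z W : B} (f : Z ⟶ W) (n : ℕ) : XE.{w} F W n →+ XE.{w} F Z n :=
  (Ext.mk₀ f).precomp F (zero_add n)

noncomputable def pd {S : ShortComplex B} (hS : S.ShortExact) (n : ℕ) :
    XE.{w} F S.X₁ n →+ XE.{w} F S.X₃ (n + 1) :=
  hS.extClass.precomp F (add_comm 1 n)

variable {S : ShortComplex B} (hS : S.ShortExact)

include hS in
theorem ex12 (n : ℕ) : Function.Exact (pf.{w} F S.g n) (pf.{w} F S.f n) := by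
  intro x
  constructor
  · intro hx
    exact Ext.contravariant_sequence_exact₂ hS F x hx
  · rintro ⟨y, rfl⟩
    change (Ext.mk₀ S.f).comp ((Ext.mk₀ S.g).comp y (zero_add n)) (zero_add n) = 0
    rw [← Ext.comp_assoc_of_second_deg_zero, Ext.mk₀_comp_mk₀, S.zero, Ext.mk₀_zero, Ext.zero_comp]

theorem ex23 (n : ℕ) : Function.Exact (pf.{w} F S.f n) (pd.{w} F hS n) := by
  intro x
  constructor
  · intro hx
    exact Ext.contravariant_sequence_exact₁ hS F x (add_comm 1 n) hx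
  · rintro ⟨y, rfl⟩
    change hS.extClass.comp ((Ext.mk₀ S.f).comp y (zero_add n)) (add_comm 1 n) = 0
    rw [← Ext.comp_assoc_of_second_deg_zero, hS.extClass_comp, Ext.zero_comp]

theorem ex31 (n : ℕ) : Function.Exact (pd.{w} F hS n) (pf.{w} F S.g (n + 1)) := by
  intro x
  constructor
  · intro hx
    exact Ext.contravariant_sequence_exact₃ hS F x hx (add_comm 1 n)
  · rintro ⟨y, rfl⟩
    change (Ext.mk₀ S.g).comp (hS.extClass.comp y (add_comm 1 n)) (zero_add (n + 1)) = 0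
    exact hS.comp_extClass_assoc _ _

include hS in
theorem inj0 : Function.Injective (pf.{w} F S.g 0) := by
  have := hS.epi_g
  exact Ext.precomp_mk₀_injective_of_epi F S.g

include hS

theorem good_mid (hA : Good (XE.{w} F S.X₃)) (hC : Good (XE.{w} F S.X₁)) : Good (XE.{w} F S.X₂) :=
  EulerAlg.good_mid (pf.{w} F S.g) (pf.{w} F S.f) (ex12 F hS) hA hC

theorem good_left (hB : Good (XE.{w} F S.X₂)) (hC : Good (XE.{w} F S.X₁)) : Good (XE.{w} F S.X₃) :=
  EulerAlg.good_left (pf.{w} F S.g) (pd.{w} F hS) (inj0 F hS) (ex31 F hS) hB hC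

theorem good_right (hA : Good (XE.{w} F S.X₃)) (hB : Good (XE.{w} F S.X₂)) : Good (XE.{w} F S.X₁) :=
  EulerAlg.good_right (pf.{w} F S.f) (pd.{w} F hS) (ex23 F hS) hA hB

theorem chi_add (hA : Good (XE.{w} F S.X₃)) (hB : Good (XE.{w} F S.X₂)) (hC : Good (XE.{w} F S.X₁)) :
    chi (XE.{w} F S.X₂) = chi (XE.{w} F S.X₃) + chi (XE.{w} F S.X₁) :=
  EulerAlg.chi_add (pf.{w} F S.g) (pf.{w} F S.f) (pd.{w} F hS) (inj0 F hS) (ex12 F hS) (ex23 F hS)
    (ex31 F hS) hA hB hC

omit hS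

section Biprod

variable (P Q : B)

/-- The split sequence `0 → P → P ⊞ Q → Q → 0`. -/
noncomputable def sb : ShortComplex B := ShortComplex.mk (biprod.inl : P ⟶ P ⊞ Q) (biprod.snd : P ⊞ Q ⟶ Q) (by simp)

omit [HasExt.{w} B] in
theorem shortExact_sb : (sb P Q).ShortExact :=
  (ShortComplex.Splitting.ofHasBinaryBiproduct P Q).shortExact

theorem good_biprod (hP : Good (XE.{w} F P)) (hQ : Good (XE.{w} F Q)) : Good (XE.{w} F (P ⊞ Q)) :=
  good_mid (S := sb P Q) F (shortExact_sb P Q) hQ hP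

theorem chi_biprod (hP : Good (XE.{w} F P)) (hQ : Good (XE.{w} F Q)) :
    chi (XE.{w} F (P ⊞ Q)) = chi (XE.{w} F P) + chi (XE.{w} F Q) :=
  (chi_add (S := sb P Q) F (shortExact_sb P Q) hQ (good_biprod F P Q hP hQ) hP).trans (add_comm _ _)

end Biprod


end Groth.Agent.Lefpen.H996.EulerExtC
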