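import Groth.Agent.Lefpen.H996.EulerExtC
import Groth.Agent.Lefpen.H714.EulerEt
import Groth.Agent.Etcore.MVEt
import Groth.Agent.S0101

/-!
# Open Mayer-Vietoris for the Euler characteristic

`X = U ∪ V`, `W = U ∩ V` (open immersions `j`, `k`, `w`): `e X F + e W F|_W = e U F|_U + e V F|_V`.
-/

set_option autoImplicit false
set_option backward.isDefEq.respectTransparency false
set_option backward.isDefEq.respectTransparency.types false
universe u
open CategoryTheory CategoryTheory.Limits CategoryTheory.Abelian AlgebraicGeometry Opposite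

namespace Groth.Agent.Lefpen.H996.EulerMV

open Groth.Agent.Lefpen.H714 Groth.Agent.Lefpen.H714.EulerAlg Groth.Agent.Lefpen.H714.EulerEt
open Groth.Agent.Lefpen.H996.EulerExtC
open Groth.Agent.Etcore.MVShriek Groth.Agent.Etcore.MVEt

variable {U V W X : Scheme.{u}} (j : U ⟶ X) [IsOpenImmersion j] (k : V ⟶ X) [IsOpenImmersion k]
  (w : W ⟶ X) [IsOpenImmersion w]
  (hjk : Set.range w = Set.range j ∩ Set.range k) (hcov : Set.range j ∪ Set.range k = Set.univ)
  (F : EtCoh.Ab X)

/-- `Ext^n(j_! j⁻¹ ℤ, F) = H^n(U, j⁻¹ F)`. -/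
theorem nonempty_psi (n : ℕ) : Nonempty (XE.{u + 1} F (P j (EtCoh.const X ℤ)) n ≃
    EtCoh.H U ((EtCoh.pull j).obj F) n) := by
  have := Groth.Agent.S0101.result j
  exact ⟨(ψ j F n).toEquiv⟩

theorem good_psi : Good (XE.{u + 1} F (P j (EtCoh.const X ℤ))) ↔ GoodE U ((EtCoh.pull j).obj F) :=
  ⟨fun h => Good.congr (nonempty_psi j F) h, fun h => Good.congr (fun n => ⟨(nonempty_psi j F n).some.symm⟩) h⟩

theorem chi_psi : chi (XE.{u + 1} F (P j (EtCoh.const X ℤ))) = e U ((EtCoh.pull j).obj F) :=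
  chi_congr (nonempty_psi j F)

include hjk hcov in
/-- Mayer-Vietoris: the whole space from the pieces. -/
theorem good_union (hU : GoodE U ((EtCoh.pull j).obj F)) (hV : GoodE V ((EtCoh.pull k).obj F))
    (hW : GoodE W ((EtCoh.pull w).obj F)) : GoodE X F := by
  have hS := shortExact_mv j k w hjk (EtCoh.const X ℤ) hcov
  exact good_left F hS (good_biprod F _ _ ((good_psi j F).2 hU) ((good_psi k F).2 hV)) ((good_psi w F).2 hW)

include hjk hcov in
theorem good_inter (hX : GoodE X F) (hU : GoodE U ((EtCoh.pull j).obj F)) (hV : GoodE V ((EtCoh.pull k).obj F)) :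
    GoodE W ((EtCoh.pull w).obj F) := by
  have hS := shortExact_mv j k w hjk (EtCoh.const X ℤ) hcov
  exact (good_psi w F).1
    (good_right F hS hX (good_biprod F _ _ ((good_psi j F).2 hU) ((good_psi k F).2 hV)))

include hjk hcov in
theorem e_union (hX : GoodE X F) (hU : GoodE U ((EtCoh.pull j).obj F)) (hV : GoodE V ((EtCoh.pull k).obj F)) :
    e X F = e U ((EtCoh.pull j).obj F) + e V ((EtCoh.pull k).obj F) - e W ((EtCoh.pull w).obj F) := by
  have hS := shortExact_mv j k w hjk (EtCoh.const X ℤ) hcov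
  have h1 := (good_psi j F).2 hU
  have h2 := (good_psi k F).2 hV
  have hW := good_inter j k w hjk hcov F hX hU hV
  have h3 := chi_add F hS hX (good_biprod F _ _ h1 h2) ((good_psi w F).2 hW)
  have h4 := chi_biprod F _ _ h1 h2
  rw [chi_psi, chi_psi] at h4
  have h5 := h4.symm.trans h3
  have h6 : chi (XE.{u + 1} F (P w (EtCoh.const X ℤ))) = e W ((EtCoh.pull w).obj F) := chi_psi w F
  have h7 : chi (XE.{u + 1} F (EtCoh.const X ℤ)) = e X F := rfl
  have h8 : e U ((EtCoh.pull j).obj F) + e V ((EtCoh.pull k).obj F) = e X F + e W ((EtCoh.pull w).obj F) := by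
    rw [← h6, ← h7]
    exact h5
  linarith

end Groth.Agent.Lefpen.H996.EulerMV
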