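import Groth.Agent.Lefpen.H288.FamChart
import Groth.Agent.Lefpen.H705.HypSmooth

/-!
# Closed subschemes of projective space on the standard charts

* `chart_preimage`: `D_+(T_i)` on the chart `Spec k[x] ⟶ P^r` is `D(dehom T_i)`.
* `ker_specMap`: the kernel ideal sheaf of `Spec D ⟶ Spec C`.
* `exists_hypChart`: for a surjection `φ : k[x] → D` with kernel `(dehom_j G)` the closed immersion
  `Spec D ⟶ Spec k[x]` is the base change of `V(G) ⟶ P^r` to the `j`-th chart; `exists_hypChart₂` for two forms.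
-/

set_option autoImplicit false
universe u

open CategoryTheory AlgebraicGeometry Limits TopologicalSpace Opposite

namespace Groth.Agent.Lefpen.H996.HypChart

open LefPen Groth.Agent.Lefpen.H705.HypIdeal Groth.Agent.Lefpen.H705.ChartPoly
open Groth.Agent.Lefpen.H705.SecIdeal Groth.Agent.Lefpen.H288.FamChart
open Groth.Agent.Divis.IdealComap Groth.Agent.Fdesc.LocGen
open Groth.Agent.Sga5

variable {r : ℕ} {k : Type u} [Field k] {d : ℕ}

theorem chart_preimage (i j : Fin (r + 1)) :
    (ProjSmooth.chart r k j) ⁻¹ᵁ (LefPen.chart r k i) =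
      PrimeSpectrum.basicOpen (ProjChart.dehom r k j (MvPolynomial.X i)) := by
  have h1 := Proj.awayι_preimage_basicOpen (CohB1.polyGrading r k) (LefPen.X_mem r k j) Nat.one_pos
    (LefPen.X_mem r k i) Nat.one_pos
  have h2 : (ProjSmooth.chart r k j) ⁻¹ᵁ (LefPen.chart r k i) =
    (Spec.map (CommRingCat.ofHom (ProjChart.chartEquiv r k j).symm.toRingHom)) ⁻¹ᵁ
      ((Proj.awayι (CohB1.polyGrading r k) (MvPolynomial.X j) (LefPen.X_mem r k j) Nat.one_pos) ⁻¹ᵁ
        (Proj.basicOpen (CohB1.polyGrading r k) (MvPolynomial.X i))) := rfl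
  rw [h2, h1]
  have h3 : HomogeneousLocalization.Away.isLocalizationElem (LefPen.X_mem r k j) (LefPen.X_mem r k i) =
      ProjChart.chartEquiv r k j (ProjChart.dehom r k j (MvPolynomial.X i)) := by
    refine Eq.trans ?_ (ofPoly_dehom (⟨MvPolynomial.X i, LefPen.X_mem r k i⟩ : Form r k 1) j).symm
    apply HomogeneousLocalization.val_injective
    rw [HomogeneousLocalization.Away.val_mk, HomogeneousLocalization.Away.val_mk, pow_one]
  ext z
  change HomogeneousLocalization.Away.isLocalizationElem (LefPen.X_mem r k j) (LefPen.X_mem r k i) ∉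
    Ideal.comap (ProjChart.chartEquiv r k j).symm.toRingHom z.asIdeal ↔
      ProjChart.dehom r k j (MvPolynomial.X i) ∉ z.asIdeal
  rw [h3, Ideal.mem_comap]
  have h4 : (ProjChart.chartEquiv r k j).symm.toRingHom
      (ProjChart.chartEquiv r k j (ProjChart.dehom r k j (MvPolynomial.X i))) =
        ProjChart.dehom r k j (MvPolynomial.X i) :=
    (ProjChart.chartEquiv r k j).symm_apply_apply _
  rw [h4]

/-- The kernel ideal sheaf of a morphism of affine schemes. -/
theorem ker_specMap {C D : Type u} [CommRing C] [CommRing D] (φ : C →+* D)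
    (I : (Spec (CommRingCat.of C)).IdealSheafData)
    (hI : ∀ x : C, (Scheme.ΓSpecIso (CommRingCat.of C)).inv.hom x ∈ I.ideal ⟨⊤, isAffineOpen_top _⟩ ↔ φ x = 0) :
    (Spec.map (CommRingCat.ofHom φ)).ker = I := by
  refine Scheme.IdealSheafData.ext_of_isAffine ?_
  rw [Scheme.Hom.ker_apply]
  ext x
  refine (mem_ker_specMap φ x).trans ?_
  rw [← hI]
  have h2 : (Scheme.ΓSpecIso (CommRingCat.of C)).inv.hom ((Scheme.ΓSpecIso (CommRingCat.of C)).hom.hom x) = x :=
    ConcreteCategory.congr_hom (Scheme.ΓSpecIso (CommRingCat.of C)).hom_inv_id x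
  rw [h2]

theorem comap_ideal_top (J : (CohB1.ProjSpace r k).IdealSheafData) (j : Fin (r + 1))
    (𝔞 : Ideal (MvPolynomial (Fin r) k))
    (h : J.ideal ⟨chart r k j, isAffineOpen_chart j⟩ = 𝔞.map (polyToChart j)) :
    (J.comap (ProjSmooth.chart r k j)).ideal ⟨⊤, isAffineOpen_top _⟩ =
      𝔞.map (Scheme.ΓSpecIso (CommRingCat.of (MvPolynomial (Fin r) k))).inv.hom := by
  rw [ideal_comap _ (ProjSmooth.chart r k j) ⟨chart r k j, isAffineOpen_chart j⟩ ⟨⊤, isAffineOpen_top _⟩
    (top_le_preimage j), h, Ideal.map_map]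
  congr 1
  apply RingHom.ext
  intro p
  exact chart_appLE_polyToChart j p

/-- The chart of a closed subscheme of projective space. -/
theorem exists_chart (J : (CohB1.ProjSpace r k).IdealSheafData) (j : Fin (r + 1))
    (𝔞 : Ideal (MvPolynomial (Fin r) k))
    (h : J.ideal ⟨chart r k j, isAffineOpen_chart j⟩ = 𝔞.map (polyToChart j))
    {D : Type u} [CommRing D] (φ : MvPolynomial (Fin r) k →+* D) (hφ : Function.Surjective φ)
    (hker : RingHom.ker φ = 𝔞) :
    ∃ g : Spec (CommRingCat.of D) ⟶ J.subscheme,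
      IsPullback (Spec.map (CommRingCat.ofHom φ)) g (ProjSmooth.chart r k j) J.subschemeι := by
  have h1 : IsClosedImmersion (Spec.map (CommRingCat.ofHom φ)) :=
    IsClosedImmersion.spec_of_surjective _ hφ
  refine Groth.Agent.Lefpen.H288.FamBC.exists_isPullback J (ProjSmooth.chart r k j) _ ?_
  refine ker_specMap φ _ fun x => ?_
  rw [comap_ideal_top J j 𝔞 h]
  have h2 := (ConcreteCategory.bijective_of_isIso (Scheme.ΓSpecIso (CommRingCat.of (MvPolynomial (Fin r) k))).inv)
  have h3 : (Scheme.ΓSpecIso (CommRingCat.of (MvPolynomial (Fin r) k))).inv.hom x ∈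
      𝔞.map (Scheme.ΓSpecIso (CommRingCat.of (MvPolynomial (Fin r) k))).inv.hom ↔ x ∈ 𝔞 := by
    rw [Ideal.mem_map_iff_of_surjective _ h2.2]
    constructor
    · rintro ⟨y, hy, hxy⟩
      rwa [← h2.1 hxy]
    · exact fun hx => ⟨x, hx, rfl⟩
  rw [h3, ← hker, RingHom.mem_ker]

end Groth.Agent.Lefpen.H996.HypChart
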