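import Groth.Agent.Lefpen.H996.HypTwo

/-!
# Points of closed subschemes of projective space on the charts
-/

set_option autoImplicit false
universe u
open CategoryTheory CategoryTheory.Limits AlgebraicGeometry

namespace Groth.Agent.Lefpen.H996.HypRange

open LefPen Groth.Agent.Lefpen.H705.HypIdeal Groth.Agent.Lefpen.H705.ChartPoly
open Groth.Agent.Lefpen.H996.HypChart Groth.Agent.Lefpen.H996.HypTwo
open Groth.Agent.Sga5

variable {k : Type u} [Field k] {r d : ℕ}

theorem chart_mem_iff (j i : Fin (r + 1)) (z : Spec (CommRingCat.of (MvPolynomial (Fin r) k))) :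
    ProjSmooth.chart r k j z ∈ LefPen.chart r k i ↔ ProjChart.dehom r k j (MvPolynomial.X i) ∉ z.asIdeal := by
  have h3 : z ∈ (ProjSmooth.chart r k j) ⁻¹ᵁ (LefPen.chart r k i) ↔
      ProjSmooth.chart r k j z ∈ LefPen.chart r k i := Iff.rfl
  rw [← h3, chart_preimage]
  exact Iff.rfl

theorem exists_chart_eq (x : CohB1.ProjSpace r k) :
    ∃ (j : Fin (r + 1)) (z : Spec (CommRingCat.of (MvPolynomial (Fin r) k))), ProjSmooth.chart r k j z = x := by
  obtain ⟨j, z, hz⟩ := ProjSmooth.exists_mem_chart r k x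
  exact ⟨j, z, hz⟩

/-- Points of a closed subscheme on a chart. -/
theorem chart_mem_range_iff (J : (CohB1.ProjSpace r k).IdealSheafData) (j : Fin (r + 1))
    (𝔞 : Ideal (MvPolynomial (Fin r) k))
    (h : J.ideal ⟨chart r k j, isAffineOpen_chart j⟩ = 𝔞.map (polyToChart j))
    (z : Spec (CommRingCat.of (MvPolynomial (Fin r) k))) :
    ProjSmooth.chart r k j z ∈ Set.range J.subschemeι ↔ 𝔞 ≤ z.asIdeal := by
  obtain ⟨g, hg⟩ := exists_chart J j 𝔞 h (Ideal.Quotient.mk 𝔞) Ideal.Quotient.mk_surjective Ideal.mk_ker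
  have h1 := range_of_isPullback hg.flip z
  rw [← h1]
  have h2 : Set.range (PrimeSpectrum.comap (Ideal.Quotient.mk 𝔞)) =
      PrimeSpectrum.zeroLocus (RingHom.ker (Ideal.Quotient.mk 𝔞)) :=
    range_comap_of_surjective _ (Ideal.Quotient.mk 𝔞) Ideal.Quotient.mk_surjective
  have h3 : z ∈ Set.range (Spec.map (CommRingCat.ofHom (Ideal.Quotient.mk 𝔞))) ↔
      z ∈ Set.range (PrimeSpectrum.comap (Ideal.Quotient.mk 𝔞)) := Iff.rfl
  rw [h3, h2, Ideal.mk_ker]
  exact Iff.rfl

theorem chart_mem_range_hyp_iff (G : Form r k d) (j : Fin (r + 1))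
    (z : Spec (CommRingCat.of (MvPolynomial (Fin r) k))) :
    ProjSmooth.chart r k j z ∈ Set.range (hypIdeal G).subschemeι ↔ ProjChart.dehom r k j G.1 ∈ z.asIdeal := by
  rw [chart_mem_range_iff _ j _ (Groth.Agent.Lefpen.H705.HypSmooth.ideal_chartAff G j),
    Ideal.span_singleton_le_iff_mem]

theorem ideal_sup_hyp {e : ℕ} (F : Form r k d) (G : Form r k e) (j : Fin (r + 1)) :
    (hypIdeal F ⊔ hypIdeal G).ideal ⟨chart r k j, isAffineOpen_chart j⟩ =
      (Ideal.span {ProjChart.dehom r k j F.1} ⊔ Ideal.span {ProjChart.dehom r k j G.1}).map (polyToChart j) := by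
  rw [Scheme.IdealSheafData.ideal_sup, Pi.sup_apply]
  have h1 := Groth.Agent.Lefpen.H705.HypSmooth.ideal_chartAff F j
  have h2 := Groth.Agent.Lefpen.H705.HypSmooth.ideal_chartAff G j
  rw [Ideal.map_sup]
  exact congrArg₂ _ h1 h2

theorem chart_mem_range_sup_iff {e : ℕ} (F : Form r k d) (G : Form r k e) (j : Fin (r + 1))
    (z : Spec (CommRingCat.of (MvPolynomial (Fin r) k))) :
    ProjSmooth.chart r k j z ∈ Set.range (hypIdeal F ⊔ hypIdeal G).subschemeι ↔
      ProjChart.dehom r k j F.1 ∈ z.asIdeal ∧ ProjChart.dehom r k j G.1 ∈ z.asIdeal := by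
  rw [chart_mem_range_iff _ j _ (ideal_sup_hyp F G j), sup_le_iff, Ideal.span_singleton_le_iff_mem,
    Ideal.span_singleton_le_iff_mem]

/-- The underlying set of `V(F, G)`. -/
theorem range_sup {e : ℕ} (F : Form r k d) (G : Form r k e) :
    Set.range (hypIdeal F ⊔ hypIdeal G).subschemeι =
      Set.range (hypIdeal F).subschemeι ∩ Set.range (hypIdeal G).subschemeι := by
  ext x
  obtain ⟨j, z, rfl⟩ := exists_chart_eq x
  rw [Set.mem_inter_iff, chart_mem_range_sup_iff, chart_mem_range_hyp_iff, chart_mem_range_hyp_iff]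

/-- The underlying set of `V(F G)`. -/
theorem range_mul {e : ℕ} (F : Form r k d) (G : Form r k e) (H : Form r k (d + e)) (hH : H.1 = F.1 * G.1) :
    Set.range (hypIdeal H).subschemeι =
      Set.range (hypIdeal F).subschemeι ∪ Set.range (hypIdeal G).subschemeι := by
  ext x
  obtain ⟨j, z, rfl⟩ := exists_chart_eq x
  rw [Set.mem_union, chart_mem_range_hyp_iff, chart_mem_range_hyp_iff, chart_mem_range_hyp_iff, hH, map_mul]
  exact z.isPrime.mul_mem_iff_mem_or_mem

end Groth.Agent.Lefpen.H996.HypRange
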