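import Groth.Agent.Lefpen.H996.TwoCharts
import Groth.Agent.Lefpen.H996.HypChart

/-!
# Plane curves covered by two affine lines
-/

set_option autoImplicit false
universe u
open CategoryTheory CategoryTheory.Limits AlgebraicGeometry

namespace Groth.Agent.Lefpen.H996.HypTwo

open LefPen Groth.Agent.Lefpen.H705.HypIdeal Groth.Agent.Lefpen.H705.ChartPoly
open Groth.Agent.Lefpen.H996.HypChart Groth.Agent.Lefpen.H996.EulerClosed
open Groth.Agent.Lefpen.H714.EulerEt
open Groth.Agent.Sga5

/-- The affine line. -/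
noncomputable abbrev A1 (k : Type u) [Field k] : Scheme.{u} := Spec (CommRingCat.of (MvPolynomial (Fin 1) k))

/-- The punctured affine line. -/
noncomputable def D1 (k : Type u) [Field k] : (A1 k).Opens :=
  PrimeSpectrum.basicOpen (MvPolynomial.X 0 : MvPolynomial (Fin 1) k)

section Sub

variable {k : Type u} [Field k]

/-- Substitution `X a ↦ f`, `X b ↦ X 0`. -/
noncomputable def sub (a : Fin 2) (f : MvPolynomial (Fin 1) k) : MvPolynomial (Fin 2) k →ₐ[k] MvPolynomial (Fin 1) k :=
  MvPolynomial.aeval (fun i => if i = a then f else MvPolynomial.X 0)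

theorem sub_rename (a b : Fin 2) (hab : b ≠ a) (f : MvPolynomial (Fin 1) k) (q : MvPolynomial (Fin 1) k) :
    sub a f (MvPolynomial.rename (fun _ => b) q) = q := by
  rw [sub, MvPolynomial.aeval_rename]
  have h : ((fun i => if i = a then f else MvPolynomial.X 0) ∘ (fun _ : Fin 1 => b)) =
      (MvPolynomial.X : Fin 1 → MvPolynomial (Fin 1) k) := by
    funext i
    simp only [Function.comp_apply, if_neg hab]
    rw [Subsingleton.elim i 0]
  rw [h, MvPolynomial.aeval_X_left, AlgHom.id_apply]

theorem sub_surjective (a b : Fin 2) (hab : b ≠ a) (f : MvPolynomial (Fin 1) k) :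
    Function.Surjective (sub a f) := fun q => ⟨_, sub_rename a b hab f q⟩

theorem ker_sub (a b : Fin 2) (hab : b ≠ a) (f : MvPolynomial (Fin 1) k) :
    RingHom.ker (sub a f).toRingHom = Ideal.span {MvPolynomial.X a - MvPolynomial.rename (fun _ => b) f} := by
  apply le_antisymm
  · intro p hp
    have key : ∀ p : MvPolynomial (Fin 2) k, p - MvPolynomial.rename (fun _ => b) (sub a f p) ∈
        Ideal.span {MvPolynomial.X a - MvPolynomial.rename (fun _ => b) f} := by
      intro p
      induction p using MvPolynomial.induction_on with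
      | C c =>
        have : sub a f (MvPolynomial.C c) = MvPolynomial.C c := by
          rw [sub, MvPolynomial.aeval_C]; rfl
        rw [this, MvPolynomial.rename_C, sub_self]
        exact Ideal.zero_mem _
      | add p q hp hq =>
        have := Ideal.add_mem _ hp hq
        rw [map_add, map_add]
        convert this using 1
        ring
      | mul_X p i hp =>
        rw [map_mul, map_mul]
        have hi : MvPolynomial.X i - MvPolynomial.rename (fun _ => b) (sub a f (MvPolynomial.X i)) ∈
            Ideal.span {MvPolynomial.X a - MvPolynomial.rename (fun _ => b) f} := by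
          by_cases h : i = a
          · subst h
            have : sub i f (MvPolynomial.X i) = f := by rw [sub, MvPolynomial.aeval_X, if_pos rfl]
            rw [this]
            exact Ideal.mem_span_singleton_self _
          · have h1 : sub a f (MvPolynomial.X i) = MvPolynomial.X 0 := by
              rw [sub, MvPolynomial.aeval_X, if_neg h]
            have h2 : i = b := by omega
            rw [h1, MvPolynomial.rename_X, h2, sub_self]
            exact Ideal.zero_mem _
        have h3 := Ideal.add_mem _ (Ideal.mul_mem_right (MvPolynomial.X i) _ hp)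
          (Ideal.mul_mem_left _ (MvPolynomial.rename (fun _ => b) (sub a f p)) hi)
        convert h3 using 1
        ring
    have h1 := key p
    have h2 : sub a f p = 0 := hp
    rw [h2, map_zero, sub_zero] at h1
    exact h1
  · rw [Ideal.span_singleton_le_iff_mem, RingHom.mem_ker]
    change sub a f (MvPolynomial.X a - MvPolynomial.rename (fun _ => b) f) = 0
    rw [map_sub, sub_rename a b hab, sub, MvPolynomial.aeval_X, if_pos rfl, sub_self]

end Sub

section Two

variable {k : Type u} [Field k] {r d : ℕ}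

/-- The `j`-th chart of a hypersurface. -/
theorem exists_chart_hyp (G : Form r k d) (j : Fin (r + 1)) {D : Type u} [CommRing D]
    (φ : MvPolynomial (Fin r) k →+* D) (hφ : Function.Surjective φ)
    (hker : RingHom.ker φ = Ideal.span {ProjChart.dehom r k j G.1}) :
    ∃ g : Spec (CommRingCat.of D) ⟶ (hypIdeal G).subscheme,
      IsPullback (Spec.map (CommRingCat.ofHom φ)) g (ProjSmooth.chart r k j) (hypIdeal G).subschemeι :=
  exists_chart (hypIdeal G) j _ (Groth.Agent.Lefpen.H705.HypSmooth.ideal_chartAff G j) φ hφ hker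

theorem mem_range_chart (j : Fin (r + 1)) (x : CohB1.ProjSpace r k) :
    x ∈ Set.range (ProjSmooth.chart r k j) ↔ x ∈ LefPen.chart r k j := by
  rw [LefPen.chart, ← ProjSmooth.opensRange_chart]
  rfl

theorem range_of_isPullback {X Y Z W : Scheme.{u}} {f : W ⟶ X} {g : W ⟶ Y} {a : X ⟶ Z} {b : Y ⟶ Z}
    (h : IsPullback f g a b) (y : Y) : y ∈ Set.range g ↔ b y ∈ Set.range a := by
  constructor
  · rintro ⟨w, rfl⟩
    refine ⟨f w, ?_⟩
    rw [← Scheme.Hom.comp_apply, ← Scheme.Hom.comp_apply, h.w]
  · rintro ⟨x, hx⟩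
    obtain ⟨z, -, hz⟩ := Scheme.Pullback.exists_preimage_pullback (f := a) (g := b) x y hx
    refine ⟨h.isoPullback.inv z, ?_⟩
    rw [← Scheme.Hom.comp_apply, h.isoPullback_inv_snd, hz]

theorem exists_twoCharts (J : (CohB1.ProjSpace r k).IdealSheafData) (j₁ j₂ : Fin (r + 1))
    (φ₁ φ₂ : MvPolynomial (Fin r) k →+* MvPolynomial (Fin 1) k)
    {g₁ g₂ : A1 k ⟶ J.subscheme}
    (h₁ : IsPullback (Spec.map (CommRingCat.ofHom φ₁)) g₁ (ProjSmooth.chart r k j₁) J.subschemeι)
    (h₂ : IsPullback (Spec.map (CommRingCat.ofHom φ₂)) g₂ (ProjSmooth.chart r k j₂) J.subschemeι)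
    (hD : ∀ p : A1 k, φ₁ (ProjChart.dehom r k j₁ (MvPolynomial.X j₂)) ∈ p.asIdeal ↔
      (MvPolynomial.X 0 : MvPolynomial (Fin 1) k) ∈ p.asIdeal)
    (hcov : ∀ y : J.subscheme, J.subschemeι y ∈ LefPen.chart r k j₁ ∨ J.subschemeι y ∈ LefPen.chart r k j₂) :
    IsOpenImmersion g₁ ∧ IsOpenImmersion g₂ ∧ Set.range g₁ ∪ Set.range g₂ = Set.univ ∧
      ∀ p, g₁ p ∈ Set.range g₂ ↔ p ∈ Set.range (D1 k).ι := by
  refine ⟨?_, ?_, ?_, ?_⟩
  · exact MorphismProperty.of_isPullback h₁ inferInstance
  · exact MorphismProperty.of_isPullback h₂ inferInstance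
  · rw [Set.eq_univ_iff_forall]
    intro y
    rcases hcov y with h | h
    · exact Or.inl ((range_of_isPullback h₁ y).2 ((mem_range_chart j₁ _).2 h))
    · exact Or.inr ((range_of_isPullback h₂ y).2 ((mem_range_chart j₂ _).2 h))
  · intro p
    rw [range_of_isPullback h₂, mem_range_chart, ← Scheme.Hom.comp_apply, ← h₁.w, Scheme.Hom.comp_apply]
    have h3 : (Spec.map (CommRingCat.ofHom φ₁)) p ∈ (ProjSmooth.chart r k j₁) ⁻¹ᵁ (LefPen.chart r k j₂) ↔
        (ProjSmooth.chart r k j₁) ((Spec.map (CommRingCat.ofHom φ₁)) p) ∈ LefPen.chart r k j₂ := Iff.rfl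
    rw [← h3, chart_preimage, Scheme.Opens.range_ι]
    change ProjChart.dehom r k j₁ (MvPolynomial.X j₂) ∉ Ideal.comap φ₁ p.asIdeal ↔
      (MvPolynomial.X 0 : MvPolynomial (Fin 1) k) ∉ p.asIdeal
    rw [Ideal.mem_comap, hD]

end Two

end Groth.Agent.Lefpen.H996.HypTwo
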