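import Groth.Agent.Lefpen.H996.EulerMV
import Groth.Agent.Lefpen.H996.EulerClosed

/-!
# Schemes glued from two affine lines: mod `ℓ` Euler characteristic by Mayer-Vietoris
-/

set_option autoImplicit false
universe u
open CategoryTheory CategoryTheory.Limits AlgebraicGeometry

namespace Groth.Agent.Lefpen.H996.TwoCharts

open Groth.Agent.Lefpen.H714.EulerEt Groth.Agent.Lefpen.H996.EulerClosed

section General

variable {A D X : Scheme.{u}} (ℓ : ℕ) (g₀ g₁ : A ⟶ X) [IsOpenImmersion g₀] [IsOpenImmersion g₁]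
  (w : D ⟶ A) [IsOpenImmersion w]
  (hcov : Set.range g₀ ∪ Set.range g₁ = Set.univ) (hint : ∀ p, g₀ p ∈ Set.range g₁ ↔ p ∈ Set.range w)

omit [IsOpenImmersion g₀] [IsOpenImmersion g₁] [IsOpenImmersion w] in
include hint in
theorem range_eq : Set.range (w ≫ g₀) = Set.range g₀ ∩ Set.range g₁ := by
  ext x
  constructor
  · rintro ⟨p, rfl⟩
    refine ⟨⟨w p, rfl⟩, ?_⟩
    exact (hint (w p)).2 ⟨p, rfl⟩
  · rintro ⟨⟨p, rfl⟩, h⟩
    obtain ⟨q, rfl⟩ := (hint p).1 h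
    exact ⟨q, rfl⟩

include hcov hint in
theorem good (hA : GoodC ℓ A) (hD : GoodC ℓ D) : GoodC ℓ X :=
  EulerMV.good_union g₀ g₁ (w ≫ g₀) (range_eq g₀ g₁ w hint) hcov _
    ((good_pullConst_iff ℓ g₀).2 hA) ((good_pullConst_iff ℓ g₁).2 hA) ((good_pullConst_iff ℓ (w ≫ g₀)).2 hD)

include hcov hint in
theorem good_inter (hA : GoodC ℓ A) (hX : GoodC ℓ X) : GoodC ℓ D :=
  (good_pullConst_iff ℓ (w ≫ g₀)).1 (EulerMV.good_inter g₀ g₁ (w ≫ g₀) (range_eq g₀ g₁ w hint) hcov _ hX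
    ((good_pullConst_iff ℓ g₀).2 hA) ((good_pullConst_iff ℓ g₁).2 hA))

include hcov hint in
theorem ec_eq (hA : GoodC ℓ A) (hX : GoodC ℓ X) : ec ℓ X = 2 * ec ℓ A - ec ℓ D := by
  have h := EulerMV.e_union g₀ g₁ (w ≫ g₀) (range_eq g₀ g₁ w hint) hcov (EtCoh.const X (ZMod ℓ)) hX
    ((good_pullConst_iff ℓ g₀).2 hA) ((good_pullConst_iff ℓ g₁).2 hA)
  rw [e_pullConst, e_pullConst, e_pullConst] at h
  have h2 : ec ℓ X = ec ℓ A + ec ℓ A - ec ℓ D := h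
  linarith

end General

end Groth.Agent.Lefpen.H996.TwoCharts
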